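import Mathlib
import Cfsg.Agent.H727.VanReg
import Cfsg.Agent.Lib.FrattiniBasic

/-!
# Generic elements of `r`-groups with an abelian group of operators of order prime to `r` (helper466)

* `exists_reg_vec` : vectors whose stabiliser acts trivially.
* `exists_generic` : `A` an abelian `p`-group acting on the `r`-group `U`, `V` a proper normal `A`-subgroup: there is
  `u ∉ V` such that `a ∈ A` acts trivially on `U / V` as soon as it fixes an element of the coset `u V [U, U]`.
-/

set_option autoImplicit false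

namespace Cfsg.Agent.H466.RC

open scoped commutatorElement

/-- vectors whose stabiliser acts trivially -/
theorem exists_reg_vec {A V : Type*} [Group A] [CommGroup V] [Finite A] [Finite V]
    (hA : ∀ a b : A, a * b = b * a) (φ : A →* MulAut V) (hcop : (Nat.card A).Coprime (Nat.card V)) :
    ∃ v : V, ∀ a : A, φ a v = v → φ a = 1 := by
  obtain ⟨v, hv⟩ := H727.VanEl.exists_regular (A := φ.range) (V := V) (by
    rintro ⟨_, a, rfl⟩ ⟨_, b, rfl⟩
    apply Subtype.ext
    change φ a * φ b = φ b * φ a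
    rw [← map_mul, hA, map_mul]) φ.range.subtype φ.range.subtype_injective
    (Nat.Coprime.coprime_dvd_left (Subgroup.card_range_dvd φ) hcop)
  exact ⟨v, fun a ha => congrArg Subtype.val (hv ⟨φ a, a, rfl⟩ ha)⟩

/-- a fixed point in a coset -/
theorem exists_fixed_coset {U A : Type*} [Group U] [Finite U] [Group A] {p : ℕ} [Fact p.Prime] (hA : IsPGroup p A)
    (φ : A →* MulAut U) (N : Subgroup U) (hN : ∀ a, ∀ n ∈ N, φ a n ∈ N) (hp : ¬ p ∣ Nat.card N) (x : U)
    (hx : ∀ a, x⁻¹ * φ a x ∈ N) : ∃ y, x⁻¹ * y ∈ N ∧ ∀ a, φ a y = y := by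
  classical
  let X : Type _ := {y : U // x⁻¹ * y ∈ N}
  let act : MulAction A X :=
    { smul := fun a y => ⟨φ a y.1, by
        have h1 : x⁻¹ * φ a y.1 = (x⁻¹ * φ a x) * φ a (x⁻¹ * y.1) := by
          rw [map_mul, map_inv]; group
        rw [h1]
        exact N.mul_mem (hx a) (hN a _ y.2)⟩
      one_smul := fun y => Subtype.ext (by
        change φ 1 y.1 = y.1
        rw [map_one]; rfl)
      mul_smul := fun a b y => Subtype.ext (by
        change φ (a * b) y.1 = φ a (φ b y.1)
        rw [map_mul]; rfl) }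
  have hfin : Finite X := Subtype.finite
  have hcard : Nat.card X = Nat.card N := by
    refine Nat.card_congr ⟨fun y => ⟨x⁻¹ * y.1, y.2⟩, fun n => ⟨x * n.1, by
      rw [inv_mul_cancel_left]; exact n.2⟩, fun y => Subtype.ext (by simp), fun n => Subtype.ext (by simp)⟩
  obtain ⟨y, hy⟩ := hA.nonempty_fixed_point_of_prime_not_dvd_card (α := X) (by rw [hcard]; exact hp)
  exact ⟨y.1, y.2, fun a => congrArg Subtype.val (hy a)⟩

theorem not_dvd_card_of_isPGroup {U : Type*} [Group U] [Finite U] {p r : ℕ} [hp : Fact p.Prime] [hr : Fact r.Prime]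
    (hpr : p ≠ r) (hU : IsPGroup r U) : ¬ p ∣ Nat.card U := by
  obtain ⟨n, hn⟩ := IsPGroup.iff_card.1 hU
  rw [hn]
  intro h
  exact hpr ((Nat.prime_dvd_prime_iff_eq hp.1 hr.1).1 (hp.1.dvd_of_dvd_pow h))

/-- **Generic elements.** -/
theorem exists_generic {U A : Type*} [Group U] [Finite U] [Group A] [Finite A] {p r : ℕ} [hp : Fact p.Prime]
    [hr : Fact r.Prime] (hpr : p ≠ r) (hU : IsPGroup r U) (hA : IsPGroup p A) (hAc : ∀ a b : A, a * b = b * a)
    (φ : A →* MulAut U) (V : Subgroup U) [hVn : V.Normal] (hV : ∀ a, ∀ v ∈ V, φ a v ∈ V) (hne : V ≠ ⊤) :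
    ∃ u, u ∉ V ∧ ∀ (a : A) (u' : U), u⁻¹ * u' ∈ V ⊔ commutator U → φ a u' = u' → ∀ x, x⁻¹ * φ a x ∈ V := by
  classical
  set N : Subgroup U := V ⊔ commutator U with hNdef
  have hVN : V ≤ N := le_sup_left
  have hcN : commutator U ≤ N := le_sup_right
  have hNn : N.Normal := Subgroup.sup_normal _ _
  have hcomm : ∀ a (x : U), x ∈ commutator U → φ a x ∈ commutator U := by
    intro a x hx
    have h1 : (commutator U).map (φ a).toMonoidHom = commutator U :=
      (Subgroup.characteristic_iff_map_eq.1 inferInstance) (φ a)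
    rw [← h1]
    exact ⟨x, hx, rfl⟩
  have hNinv : ∀ a, ∀ n ∈ N, φ a n ∈ N := by
    intro a n hn
    have h1 : N ≤ N.comap (φ a).toMonoidHom := by
      refine sup_le ?_ ?_
      · intro v hv
        exact hVN (hV a v hv)
      · intro v hv
        exact hcN (hcomm a v hv)
    exact h1 hn
  -- the quotient
  let Q := U ⧸ N
  let instQ : CommGroup Q :=
    { (inferInstance : Group (U ⧸ N)) with
      mul_comm := by
        intro x y
        induction x using QuotientGroup.induction_on with
        | H x =>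
          induction y using QuotientGroup.induction_on with
          | H y =>
            change (QuotientGroup.mk (x * y) : U ⧸ N) = QuotientGroup.mk (y * x)
            rw [QuotientGroup.eq]
            apply hcN
            have h1 : (x * y)⁻¹ * (y * x) = ⁅y⁻¹, x⁻¹⁆ := by
              rw [commutatorElement_def]; group
            rw [h1]
            exact Subgroup.commutator_mem_commutator (Subgroup.mem_top _) (Subgroup.mem_top _) }
  have hmap : ∀ a, N.map (φ a).toMonoidHom = N := by
    intro a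
    apply le_antisymm
    · rintro _ ⟨x, hx, rfl⟩
      exact hNinv a x hx
    · intro x hx
      refine ⟨φ a⁻¹ x, hNinv a⁻¹ x hx, ?_⟩
      change φ a (φ a⁻¹ x) = x
      rw [← MulAut.mul_apply, ← map_mul, mul_inv_cancel, map_one]
      rfl
  let ψ : A →* MulAut Q :=
    { toFun := fun a => QuotientGroup.congr N N (φ a) (hmap a)
      map_one' := by
        ext x
        induction x using QuotientGroup.induction_on with
        | H x =>
          change (QuotientGroup.mk (φ 1 x) : U ⧸ N) = QuotientGroup.mk x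
          rw [map_one]; rfl
      map_mul' := fun a b => by
        ext x
        induction x using QuotientGroup.induction_on with
        | H x =>
          change (QuotientGroup.mk (φ (a * b) x) : U ⧸ N) = QuotientGroup.mk (φ a (φ b x))
          rw [map_mul]; rfl }
  have hψ : ∀ a (x : U), ψ a (QuotientGroup.mk x) = (QuotientGroup.mk (φ a x) : U ⧸ N) := fun a x => rfl
  have hcop : (Nat.card A).Coprime (Nat.card Q) := by
    obtain ⟨n, hn⟩ := IsPGroup.iff_card.1 hA
    obtain ⟨m, hm⟩ := IsPGroup.iff_card.1 (hU.to_quotient N)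
    rw [hn]
    change Nat.Coprime _ (Nat.card (U ⧸ N))
    rw [hm]
    exact ((Nat.coprime_primes hp.1 hr.1).2 hpr).pow _ _
  obtain ⟨v, hv⟩ := exists_reg_vec hAc ψ hcop
  have hex : ∃ u, u ∉ V ∧ ∀ (a : A) (u' : U), u⁻¹ * u' ∈ N → φ a u' = u' → ψ a = 1 := by
    obtain ⟨u0, rfl⟩ := QuotientGroup.mk_surjective v
    by_cases h0 : u0 ∈ V
    · obtain ⟨u, hu⟩ : ∃ u, u ∉ V := by
        by_contra hcon
        push Not at hcon
        exact hne (eq_top_iff.2 fun x _ => hcon x)
      refine ⟨u, hu, fun a u' _ _ => hv a ?_⟩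
      have h1 : (QuotientGroup.mk u0 : U ⧸ N) = 1 := (QuotientGroup.eq_one_iff _).2 (hVN h0)
      rw [h1]
      exact map_one _
    · refine ⟨u0, h0, fun a u' h1 h2 => hv a ?_⟩
      have h3 : (QuotientGroup.mk u0 : U ⧸ N) = QuotientGroup.mk u' := QuotientGroup.eq.2 h1
      rw [h3, hψ, h2]
  obtain ⟨u, huV, hu⟩ := hex
  refine ⟨u, huV, fun a u' h1 h2 => ?_⟩
  have ha : a ∈ ψ.ker := hu a u' h1 h2
  -- the fixed points modulo `V` of the kernel
  let K : Subgroup U :=
    { carrier := {x | x⁻¹ * φ a x ∈ V}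
      one_mem' := by
        change (1 : U)⁻¹ * φ a 1 ∈ V
        rw [map_one, inv_one, one_mul]; exact V.one_mem
      mul_mem' := fun {x y} (hx : x⁻¹ * φ a x ∈ V) (hy : y⁻¹ * φ a y ∈ V) => by
        change (x * y)⁻¹ * φ a (x * y) ∈ V
        have h3 : (x * y)⁻¹ * φ a (x * y) = (y⁻¹ * (x⁻¹ * φ a x) * y⁻¹⁻¹) * (y⁻¹ * φ a y) := by
          rw [map_mul]; group
        rw [h3]
        exact V.mul_mem (hVn.conj_mem _ hx _) hy
      inv_mem' := fun {x} (hx : x⁻¹ * φ a x ∈ V) => by
        change x⁻¹⁻¹ * φ a x⁻¹ ∈ V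
        have h3 : x⁻¹⁻¹ * φ a x⁻¹ = x * (x⁻¹ * φ a x)⁻¹ * x⁻¹ := by
          rw [map_inv]; group
        rw [h3]
        exact hVn.conj_mem _ (V.inv_mem hx) _ }
  have hVK : V ≤ K := by
    intro v hv
    change v⁻¹ * φ a v ∈ V
    exact V.mul_mem (V.inv_mem hv) (hV a v hv)
  have hK : K = ⊤ := by
    have h3 : K ⊔ frattini U = ⊤ := by
      rw [eq_top_iff]
      intro x _
      obtain ⟨y, hy, hfix⟩ := exists_fixed_coset (hA.to_subgroup ψ.ker) (φ.comp ψ.ker.subtype) N
        (fun b n hn => hNinv b n hn) (not_dvd_card_of_isPGroup hpr (hU.to_subgroup N)) x (by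
          intro b
          have hb : ψ (b : A) = 1 := b.2
          have h4 : ψ (b : A) (QuotientGroup.mk x) = (QuotientGroup.mk x : U ⧸ N) := by
            rw [hb]; rfl
          rw [hψ] at h4
          exact QuotientGroup.eq.1 h4.symm)
      have hyK : y ∈ K := by
        change y⁻¹ * φ a y ∈ V
        have h4 : φ a y = y := hfix ⟨a, ha⟩
        rw [h4, inv_mul_cancel]; exact V.one_mem
      have h5 : x = y * (x⁻¹ * y)⁻¹ := by group
      rw [h5]
      have h6 : N ≤ K ⊔ frattini U :=
        sup_le (hVK.trans le_sup_left) ((Lib.FrattiniBasic.commutator_le_frattini hU).trans le_sup_right)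
      exact mul_mem (le_sup_left (b := frattini U) hyK) (h6 (inv_mem hy))
    exact frattini_nongenerating h3
  intro x
  have : x ∈ K := by rw [hK]; trivial
  exact this

end Cfsg.Agent.H466.RC
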