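import Cfsg.Agent.H716.UniCent
import Cfsg.Agent.H527.RC.Stmts
import Cfsg.Agent.H466.RC.Generic

/-!
# Regular unipotent elements with centraliser of order prime to `p` (helper466)

* `exists_reg_cc` (buildings): some regular element of `U c` commutes with no element of order `p`, `p ≠ r`.
* **`cc_cross`** : `S` simple of Lie type in characteristic `r ≠ p`: `CC p S`.
-/

set_option autoImplicit false
set_option linter.unusedSectionVars false

namespace Cfsg.Agent.H466.RC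

open Cfsg.Agent.Tits.Core Cfsg.Agent.Tits.Core.Bldg Cfsg.Agent.Tits Cfsg.Agent.Tits.Opp
open Cfsg.Agent.FixBN (Sys HasSplit Split)
open Cfsg.Agent.H716.RegUni
open scoped commutatorElement

section Bldg

variable {I : Type*} {M : CoxeterMatrix I} {W : Type*} [Group W] {cs : CoxeterSystem M W} {C : Type*}
variable {Δ : Bldg cs C} {G : Type*} [Group G] [MulAction G C] {r : ℕ}

local prefix:100 "s" => cs.simple
local prefix:100 "ℓ" => cs.length

variable (S : Sys Δ G r)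

include S in
theorem conj_mem_U {c : C} {g : G} (hgc : g • c = c) {u : G} (hu : u ∈ S.U c) : g * u * g⁻¹ ∈ S.U c := by
  have h1 : (S.U c).map (MulAut.conj g).toMonoidHom ≤ S.U c := by
    refine S.max c _ ((S.isP c).map _) ?_
    rintro _ ⟨v, hv, rfl⟩
    simp only [MulEquiv.coe_toMonoidHom, MulAut.conj_apply]
    rw [mul_smul, mul_smul]
    have : g⁻¹ • c = c := by rw [inv_smul_eq_iff, hgc]
    rw [this, S.fix c v hv, hgc]
  exact h1 ⟨u, hu, by simp⟩

/-- the kernel of `U c` on the panel `i` -/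
def VV (c : C) (i : I) : Subgroup ↥(S.U c) where
  carrier := {u | TrivOn Δ c i (u : G)}
  one_mem' := fun y _ => one_smul G y
  mul_mem' := fun {_ _} hu hv => TrivOn.mul hu hv
  inv_mem' := fun {_} hu => TrivOn.inv hu

theorem mem_VV {c : C} {i : I} {u : ↥(S.U c)} : u ∈ VV S c i ↔ TrivOn Δ c i (u : G) := Iff.rfl

instance VV_normal (c : C) (i : I) : (VV S c i).Normal where
  conj_mem := fun n hn g => by
    rw [mem_VV] at hn ⊢
    have h1 := hn.conj S (b := ((g : G))⁻¹) (by rw [inv_smul_eq_iff, S.fix c g g.2])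
    rw [inv_inv] at h1
    exact h1

variable [F : OppRes.Cox cs] [Finite W] [Finite I]

/-- **A regular unipotent element commuting with no element of order `p`.** -/
theorem exists_reg_cc [Finite G] {p : ℕ} [hp : Fact p.Prime] [hr : Fact r.Prime] (hpr : p ≠ r) (hth : Δ.Thick) (c : C)
    (hfaith : ∀ g : G, (∀ x : C, g • x = x) → g = 1)
    (hab : ∀ x y : G, x • c = c → y • c = c → x * y * x⁻¹ * y⁻¹ ∈ S.U c) :
    ∃ u, Reg S c u ∧ ∀ g : G, orderOf g = p → g * u ≠ u * g := by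
  classical
  let B := MulAction.stabilizer G c
  obtain ⟨P0⟩ := (inferInstance : Nonempty (Sylow p B))
  let P : Subgroup G := (P0 : Subgroup B).map B.subtype
  have hPp : IsPGroup p P := P0.isPGroup'.map _
  have hPc : ∀ g ∈ P, g • c = c := by
    rintro _ ⟨g, -, rfl⟩
    exact g.2
  obtain ⟨d, hcd, hPd⟩ := exists_opp_fixed S hpr P hPp hPc
  have hUc : ∀ u ∈ S.U c, u • c = c := S.fix c
  -- the chambers `y0`
  have hlt : ∀ i, ℓ (s i * Δ.δ c d) < ℓ (Δ.δ c d) := by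
    intro i
    have h1 := F.len_mul_w0 (s i)
    rw [cs.length_simple] at h1
    have h2 : Δ.δ c d = w0 cs := hcd
    rw [h2]
    omega
  choose y0 hy0 hy0d _ using fun i => exists_first (hlt i)
  have hPy : ∀ i, ∀ g ∈ P, g • y0 i = y0 i := fun i g hg => smul_first S (hlt i) (hy0 i) (hy0d i) (hPc g hg) (hPd g hg)
  have hV : ∀ i, ∀ u ∈ S.U c, u • y0 i = y0 i → TrivOn Δ c i u := fun i u hu h => S.pan c (y0 i) i (hy0 i) u hu h
  -- elements fixing `c` and `d` centralise `P`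
  have hTc : ∀ h : G, h • c = c → h • d = d → ∀ g ∈ P, h * g * h⁻¹ = g := by
    intro h hhc hhd g hg
    have h5 := hab h g hhc (hPc g hg)
    have h6 : (h * g * h⁻¹ * g⁻¹) • d = d := by
      have h7 : g⁻¹ • d = d := by rw [inv_smul_eq_iff, hPd g hg]
      have h8 : h⁻¹ • d = d := by rw [inv_smul_eq_iff, hhd]
      rw [mul_smul, mul_smul, mul_smul, h7, h8, hPd g hg, hhd]
    exact mul_inv_eq_one.1 (S.free c d hcd _ h5 h6)
  have hPab : ∀ a b : P, a * b = b * a := by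
    intro a b
    apply Subtype.ext
    change (a : G) * b = b * a
    exact mul_inv_eq_iff_eq_mul.1 (hTc a (hPc a a.2) (hPd a a.2) b b.2)
  -- the action of `P` on `U c`
  have hPN : P ≤ Subgroup.normalizer (S.U c : Set G) := by
    intro g hg
    rw [Subgroup.mem_normalizer_iff]
    intro u
    refine ⟨fun hu => conj_mem_U S (hPc g hg) hu, fun hu => ?_⟩
    have h1 := conj_mem_U S (g := g⁻¹) (by rw [inv_smul_eq_iff, hPc g hg]) hu
    have h2 : g⁻¹ * (g * u * g⁻¹) * g⁻¹⁻¹ = u := by group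
    rwa [h2] at h1
  let φ : P →* MulAut ↥(S.U c) := (S.U c).normalizerMonoidHom.comp (Subgroup.inclusion hPN)
  have hφ : ∀ (g : P) (u : ↥(S.U c)), ((φ g u : ↥(S.U c)) : G) = g * u * (g : G)⁻¹ := fun g u => rfl
  -- generic elements of the panels
  have hex : ∀ i, ∃ u, u ∉ VV S c i ∧ ∀ (a : P) (u' : ↥(S.U c)), u⁻¹ * u' ∈ VV S c i ⊔ commutator ↥(S.U c) →
      φ a u' = u' → ∀ x, x⁻¹ * φ a x ∈ VV S c i := by
    intro i
    refine exists_generic hpr (S.isP c) hPp hPab φ (VV S c i) ?_ ?_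
    · intro a v hv
      rw [mem_VV] at hv ⊢
      rw [hφ]
      have h1 := hv.conj S (b := ((a : G))⁻¹) (by rw [inv_smul_eq_iff, hPc a a.2])
      rw [inv_inv] at h1
      exact h1
    · intro htop
      obtain ⟨a, b, hne, ha, hb⟩ := hth c i
      obtain ⟨x, hx, hxa, -⟩ := exists_root S ha hb
      have h1 : (⟨x, hx⟩ : ↥(S.U c)) ∈ VV S c i := by rw [htop]; trivial
      have h2 := h1 a (Or.inr ha)
      exact hne (h2.symm.trans hxa)
  choose v hvV hv using hex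
  obtain ⟨u, hu, hue⟩ := exists_prescribed S c y0 (fun i => (v i : G) • y0 i) hy0 (fun i => by
    have h1 := S.iso (v i : G) c (y0 i)
    rw [hUc (v i) (v i).2] at h1
    rw [h1, hy0])
  have hur : Reg S c u := ⟨hu, fun i => ⟨y0 i, hy0 i, fun h => hvV i (by
    rw [mem_VV]
    exact hV i _ (v i).2 ((hue i).symm.trans h))⟩⟩
  refine ⟨u, hur, fun g hg hcomm => ?_⟩
  have hgc : g • c = c := smul_eq_of_comm S hur hcomm
  -- conjugate `g` into `P`
  have hgB : g ∈ B := hgc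
  have hgp : IsPGroup p (Subgroup.zpowers (⟨g, hgB⟩ : B)) := by
    apply IsPGroup.of_card (n := 1)
    rw [Nat.card_zpowers, pow_one]
    rw [← hg]
    exact Subgroup.orderOf_mk _ _
  obtain ⟨Q, hQ⟩ := hgp.exists_le_sylow
  obtain ⟨b, hb⟩ := MulAction.exists_smul_eq ↥B P0 Q
  have hgQ : (⟨g, hgB⟩ : B) ∈ (b • P0 : Sylow p B) := by
    rw [hb]
    exact hQ (Subgroup.mem_zpowers _)
  obtain ⟨g1, hg1, hgg1⟩ : ∃ g1 : B, g1 ∈ P0 ∧ b * g1 * b⁻¹ = ⟨g, hgB⟩ := by
    have h1 : (⟨g, hgB⟩ : B) ∈ ((b • P0 : Sylow p B) : Subgroup B) := hgQ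
    rw [Sylow.coe_subgroup_smul, Subgroup.mem_pointwise_smul_iff_inv_smul_mem] at h1
    refine ⟨b⁻¹ * ⟨g, hgB⟩ * b, ?_, by group⟩
    rw [← map_inv] at h1
    change b⁻¹ * (⟨g, hgB⟩ : B) * b⁻¹⁻¹ ∈ (P0 : Subgroup B) at h1
    rwa [inv_inv] at h1
  have hg1P : (g1 : G) ∈ P := ⟨g1, hg1, rfl⟩
  have hgg : (b : G) * g1 * (b : G)⁻¹ = g := congrArg Subtype.val hgg1
  have hbc : (b : G) • c = c := b.2
  have hbd : Δ.Opp c ((b : G) • d) := by
    change Δ.δ c ((b : G) • d) = w0 cs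
    conv_lhs => rw [← hbc]
    rw [S.iso]
    exact hcd
  obtain ⟨w, hw, hwd⟩ := S.trans c d ((b : G) • d) hcd hbd
  have hhc : (w⁻¹ * (b : G)) • c = c := by
    rw [mul_smul, hbc, inv_smul_eq_iff, hUc w hw]
  have hhd : (w⁻¹ * (b : G)) • d = d := by
    rw [mul_smul, ← hwd, inv_smul_smul]
  have h4 := hTc _ hhc hhd g1 hg1P
  have h5 : w⁻¹ * g * w = g1 := by
    rw [← h4, ← hgg]; group
  have h6 : (g1 : G) * (w⁻¹ * u * w) * (g1 : G)⁻¹ = w⁻¹ * u * w := by
    rw [mul_inv_eq_iff_eq_mul, ← h5]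
    calc w⁻¹ * g * w * (w⁻¹ * u * w) = w⁻¹ * (g * u) * w := by group
      _ = w⁻¹ * (u * g) * w := by rw [hcomm]
      _ = _ := by group
  -- `g1` acts trivially on all panels
  have htriv : ∀ i (x : G), x ∈ S.U c → TrivOn Δ c i (x⁻¹ * (g1 * x * (g1 : G)⁻¹)) := by
    intro i x hx
    refine hv i ⟨g1, hg1P⟩ ((⟨w, hw⟩ : ↥(S.U c))⁻¹ * ⟨u, hu⟩ * ⟨w, hw⟩) ?_ ?_ ⟨x, hx⟩
    · have h7 : (v i)⁻¹ * ((⟨w, hw⟩ : ↥(S.U c))⁻¹ * ⟨u, hu⟩ * ⟨w, hw⟩) =
          ((v i)⁻¹ * ⟨u, hu⟩) * ⁅(⟨u, hu⟩ : ↥(S.U c))⁻¹, (⟨w, hw⟩ : ↥(S.U c))⁻¹⁆ := by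
        rw [commutatorElement_def]; group
      rw [h7]
      refine mul_mem (Subgroup.mem_sup_left ?_) (Subgroup.mem_sup_right
        (Subgroup.commutator_mem_commutator (Subgroup.mem_top _) (Subgroup.mem_top _)))
      rw [mem_VV]
      refine hV i _ ((v i)⁻¹ * ⟨u, hu⟩).2 ?_
      change ((v i : G)⁻¹ * u) • y0 i = y0 i
      rw [mul_smul, hue, inv_smul_smul]
    · apply Subtype.ext
      rw [hφ]
      exact h6
  have hpan : ∀ i, TrivOn Δ c i (g1 : G) := by
    intro i y hy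
    rcases hy with rfl | hy
    · exact hPc _ hg1P
    · obtain ⟨x, hx, hxy, -⟩ := exists_root S (hy0 i) hy
      have h2 : (x⁻¹ * ((g1 : G) * x * (g1 : G)⁻¹)) • y0 i = y0 i := htriv i x hx (y0 i) (Or.inr (hy0 i))
      have h3 : (g1 : G)⁻¹ • y0 i = y0 i := by rw [inv_smul_eq_iff, hPy i _ hg1P]
      rw [mul_smul, mul_smul, h3, mul_smul, hxy, inv_smul_eq_iff, hxy] at h2
      exact h2
  have hg11 : (g1 : G) = 1 := by
    apply hfaith
    intro x
    exact Rigid.rigid (Δ := Δ) (Δ' := Δ) hth (J := Set.univ) (c := c) (d := d) (φ := fun y => (g1 : G) • y)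
      (ψ := fun y => y) (fun a _ b _ => S.iso _ a b) (fun a _ b _ => rfl)
      (fun j _ y hy => hpan j y hy) hcd (hPd _ hg1P) x
      (by change Δ.δ c x ∈ WJ cs Set.univ; rw [OppRes.WJ_univ]; trivial)
  have hg1' : g = 1 := by
    rw [← hgg, hg11]; group
  rw [hg1', orderOf_one] at hg
  exact hp.1.one_lt.ne hg

end Bldg

open Cfsg Subgroup
open Cfsg.Agent.FixBN
open Cfsg.Agent.Omega.ML.LieRow.CRB
open Cfsg.Agent.H527.RC

universe u

/-- A group with a split (B,N)-pair of characteristic `r` and `B/U` abelian. -/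
theorem cc_of_hasSplitAb {K : Type u} [Group K] [Finite K] [IsSimpleGroup K] {p r : ℕ} [hp : Fact p.Prime]
    [hr : Fact r.Prime] (h : HasSplitAb r K) (hpr : p ≠ r) : CC p K := by
  obtain ⟨P, U, hne, h, hab⟩ := h
  have hN : ((P.B ⊓ P.N).subgroupOf P.N).Normal := Cfsg.Agent.Tits.OfBN.normal_subgroupOf P
  obtain ⟨M, cs, hcs⟩ := Cfsg.Agent.S0320.result P
  have hI : Finite P.S := FixBN.OfBN.finite_I (Equiv.refl P.S)
  have hIn : Nonempty P.S := hne.to_subtype
  have hcore := Cfsg.Agent.Tits.OfBN.normalCore_eq_bot P hne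
  have hfaith : ∀ g : K, (∀ x : K ⧸ P.B, g • x = x) → g = 1 := by
    intro g hg
    have h1 : g ∈ P.B.normalCore := by
      intro a
      have h2 := hg (QuotientGroup.mk a⁻¹)
      rw [FixBN.OfBN.smul_mk_eq] at h2
      simpa using h2
    rw [hcore] at h1
    exact Subgroup.mem_bot.1 h1
  obtain ⟨x, hx, hx2⟩ := exists_reg_cc (p := p) (FixBN.OfBN.sys (Equiv.refl P.S) cs hcs h) hpr
    (Cfsg.Agent.Tits.OfBN.thick P (Equiv.refl P.S) cs hcs) (QuotientGroup.mk (1 : K) : K ⧸ P.B) hfaith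
    (by
      intro a b ha hb
      rw [FixBN.OfBN.smul_mk_eq] at ha hb
      change _ ∈ FixBN.OfBN.UU P U (QuotientGroup.mk (1 : K))
      rw [FixBN.OfBN.mem_UU h]
      have ha' : a ∈ P.B := by simpa using ha
      have hb' : b ∈ P.B := by simpa using hb
      simpa using hab a ha' b hb')
  refine ⟨x, ?_, ?_⟩
  · have h1 : x ∈ FixBN.OfBN.UU P U (QuotientGroup.mk (1 : K)) := hx.1
    obtain ⟨k, hk⟩ := IsPGroup.iff_orderOf.1 (FixBN.OfBN.isP h (QuotientGroup.mk (1 : K))) ⟨x, h1⟩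
    rw [Subgroup.orderOf_mk] at hk
    rw [hk]
    intro h2
    exact hpr ((Nat.prime_dvd_prime_iff_eq hp.1 hr.1).1 (hp.1.dvd_of_dvd_pow h2))
  · intro h2
    obtain ⟨g, hg⟩ := exists_prime_orderOf_dvd_card' p h2
    refine hx2 (g : K) (by rw [← hg, Subgroup.orderOf_coe]) ?_
    exact mem_centralizer_singleton_iff.1 g.2

/-- **Cross characteristic: simple groups of Lie type in characteristic `r ≠ p` satisfy `CC p`.** -/
theorem cc_cross {S : Type u} [Group S] [Finite S] [IsSimpleGroup S] {p r : ℕ} (hp : p.Prime) (hr : r.Prime)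
    (h : IsLieTypeChar r S) (hpr : p ≠ r) : CC p S := by
  have : Fact p.Prime := ⟨hp⟩
  have : Fact r.Prime := ⟨hr⟩
  exact cc_of_hasSplitAb (Cfsg.Agent.H716.SplitAb.hasSplitAb_of_lie hr h) hpr

end Cfsg.Agent.H466.RC
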